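import Mathlib

/-!
# Counting Sylow subgroups of prime order (S3500, row `PSL₃(4)`)
-/

set_option autoImplicit false

namespace Cfsg.Agent.H97.Der

open Subgroup

/-- Sylow subgroups of prime order in a group without elements of order `p * r` -/
theorem syl_count {G : Type*} [Group G] [Finite G] {p : ℕ} [hp : Fact p.Prime] (hd2 : ¬ p ^ 2 ∣ Nat.card G)
    (hno : ∀ g : G, p ∣ orderOf g → orderOf g = p) (P : Subgroup G) (hP : Nat.card P = p) :
    ∃ k n : ℕ, Nat.card (normalizer (P : Set G)) = p * k ∧ k ∣ p - 1 ∧ Nat.card G = p * k * n ∧ n % p = 1 := by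
  classical
  have hpos : 0 < Nat.card G := Nat.card_pos
  have hpd : p ∣ Nat.card G := hP ▸ P.card_subgroup_dvd_card
  have hfac : (Nat.card G).factorization p = 1 := by
    have h1 : 1 ≤ (Nat.card G).factorization p := (hp.out.dvd_iff_one_le_factorization hpos.ne').1 hpd
    by_contra h2
    exact hd2 ((hp.out.pow_dvd_iff_le_factorization hpos.ne').2 (by omega))
  -- the centraliser
  have hcyc : IsCyclic P := isCyclic_of_prime_card hP
  obtain ⟨z, hz⟩ := exists_prime_orderOf_dvd_card' (G := P) p (by rw [hP])
  have hzo : orderOf (z : G) = p := by rw [Subgroup.orderOf_coe, hz]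
  have hPC : P ≤ centralizer (P : Set G) := by
    intro x hx
    rw [mem_centralizer_iff]
    intro y hy
    have := IsCyclic.isMulCommutative (α := P)
    exact congrArg Subtype.val (mul_comm' (⟨y, hy⟩ : P) ⟨x, hx⟩)
  have hC : Nat.card (centralizer (P : Set G)) = p := by
    have h1 : ∀ r : ℕ, r.Prime → r ∣ Nat.card (centralizer (P : Set G)) → r = p := by
      intro r hr hd
      by_contra hne
      have := Fact.mk hr
      obtain ⟨c, hc⟩ := exists_prime_orderOf_dvd_card' (G := centralizer (P : Set G)) r hd
      have h2 : Commute (z : G) (c : G) := mem_centralizer_iff.1 c.2 _ z.2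
      have h3 : orderOf ((z : G) * (c : G)) = p * r := by
        rw [h2.orderOf_mul_eq_mul_orderOf_of_coprime
          (by rw [hzo, Subgroup.orderOf_coe, hc]; exact (Nat.coprime_primes hp.out hr).2 (Ne.symm hne)),
          hzo, Subgroup.orderOf_coe, hc]
      have h4 := hno _ (h3 ▸ dvd_mul_right p r)
      rw [h3] at h4
      have := hr.one_lt
      have := hp.out.pos
      nlinarith
    obtain ⟨j, hj⟩ : ∃ j, Nat.card (centralizer (P : Set G)) = p ^ j := by
      refine ⟨_, Nat.eq_prime_pow_of_unique_prime_dvd Nat.card_pos.ne' fun {r} hr hd => h1 r hr hd⟩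
    have h2 : p ^ 1 ∣ p ^ j := by
      rw [pow_one, ← hj, ← hP]
      exact Subgroup.card_dvd_of_le hPC
    have h3 := (Nat.pow_dvd_pow_iff_le_right hp.out.one_lt).1 h2
    have h4 : j ≤ 1 := by
      by_contra h5
      exact hd2 ((pow_dvd_pow p (show 2 ≤ j by omega)).trans (hj ▸ Subgroup.card_subgroup_dvd_card _))
    rw [hj, le_antisymm h4 h3, pow_one]
  -- the normaliser
  have hN : ∃ k, k ∣ p - 1 ∧ Nat.card (normalizer (P : Set G)) = p * k := by
    refine ⟨Nat.card P.normalizerMonoidHom.range, ?_, ?_⟩
    · have h6 := Subgroup.card_subgroup_dvd_card P.normalizerMonoidHom.range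
      rw [IsCyclic.card_mulAut, hP, Nat.totient_prime hp.out] at h6
      exact h6
    · have h1 := Subgroup.card_mul_index P.normalizerMonoidHom.ker
      rw [Subgroup.index_ker, Subgroup.normalizerMonoidHom_ker] at h1
      rw [← h1]
      congr 1
      rw [← hC]
      refine Nat.card_congr (Subgroup.subgroupOfEquivOfLe ?_).toEquiv
      exact Subgroup.centralizer_le_normalizer _
  obtain ⟨k, hk, hNk⟩ := hN
  let S : Sylow p G := Sylow.ofCard P (by rw [hP, hfac, pow_one])
  have h1 := card_sylow_modEq_one p G
  have h2 : Nat.card (Sylow p G) = (normalizer (P : Set G)).index := S.card_eq_index_normalizer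
  have h3 := Subgroup.card_mul_index (normalizer (P : Set G))
  refine ⟨k, Nat.card (Sylow p G), hNk, hk, ?_, ?_⟩
  · rw [← h3, ← h2, hNk]
  · have h4 : Nat.card (Sylow p G) % p = 1 % p := h1
    rw [h4, Nat.mod_eq_of_lt hp.out.one_lt]

/-- a group of squarefree order has cyclic commutator subgroup and cyclic commutator quotient -/
theorem exists_big_order {G : Type*} [Group G] [Finite G] (h : Squarefree (Nat.card G)) :
    ∃ x y : G, Nat.card G ∣ orderOf x * orderOf y := by
  have := IsZGroup.of_squarefree h
  have h1 : IsCyclic (commutator G) := IsZGroup.isCyclic_commutator G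
  have h2 : IsCyclic (Abelianization G) := IsZGroup.isCyclic_abelianization
  obtain ⟨x, hx⟩ := h1.exists_generator
  obtain ⟨y', hy'⟩ := h2.exists_generator
  obtain ⟨y, rfl⟩ : ∃ y : G, Abelianization.of y = y' := QuotientGroup.mk_surjective y'
  refine ⟨x, y, ?_⟩
  have h3 := Subgroup.card_eq_card_quotient_mul_card_subgroup (commutator G)
  rw [h3, mul_comm]
  have h4 : orderOf (x : G) = Nat.card (commutator G) := by
    rw [Subgroup.orderOf_coe]
    exact orderOf_eq_card_of_forall_mem_zpowers hx
  have h5 : orderOf (Abelianization.of y) = Nat.card (G ⧸ commutator G) := orderOf_eq_card_of_forall_mem_zpowers hy'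
  rw [h4, ← h5]
  exact mul_dvd_mul dvd_rfl (orderOf_map_dvd _ _)

end Cfsg.Agent.H97.Der
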