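import Cfsg.Agent.H97.Der.L34Inv
import Cfsg.Agent.H97.Der.Count
import Cfsg.Agent.H439.Der.Reduce
import Cfsg.Agent.S2476
import Cfsg.Agent.S0243
import Cfsg.Agent.S2601

/-!
# The row `PSL₃(4)` of S3500
-/

set_option autoImplicit false

namespace Cfsg.Agent.H97.Der

open Matrix Subgroup Cfsg.Agent.H439.Der

variable {F : Type} [Field F] [Fintype F] (hF : F4 F)

include hF

theorem card_T3 : Nat.card (T3 F) = 20160 := by
  have h := S0243.result hF.card 3 (by norm_num)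
  have h2 : ∏ i : Fin 3, (4 ^ 3 - 4 ^ (i : ℕ)) = 181440 := by decide
  have h4 : Nat.gcd 3 (4 - 1) = 3 := by decide
  rw [h2, h4] at h
  have h3 : 3 * (3 * Nat.card (T3 F)) = 181440 := h
  omega

theorem orders (g : T3 F) : orderOf g = 1 ∨ orderOf g = 2 ∨ orderOf g = 3 ∨ orderOf g = 4 ∨ orderOf g = 5 ∨
    orderOf g = 7 := by
  have : Fact (Nat.Prime 2) := ⟨Nat.prime_two⟩
  have : CharP F 2 := CharTwo.of_one_ne_zero_of_two_eq_zero one_ne_zero hF.two
  have h1 := Cfsg.Agent.S2476.result (F := F) 2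
  have h2 : orderOf g ∈ Set.range (orderOf : Matrix.ProjectiveSpecialLinearGroup (Fin 3) F → ℕ) := ⟨g, rfl⟩
  rw [h1, Set.mem_ofPred_eq, hF.card] at h2
  obtain ⟨m, hm⟩ : ∃ m, orderOf g = m := ⟨_, rfl⟩
  rw [hm] at h2 ⊢
  norm_num at h2
  rcases h2 with (h | h | h | h | h)
  · have := Nat.le_of_dvd (by norm_num) h
    interval_cases m <;> revert h <;> decide
  · have := Nat.le_of_dvd (by norm_num) h
    interval_cases m <;> revert h <;> decide
  · have := Nat.le_of_dvd (by norm_num) h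
    interval_cases m <;> revert h <;> decide
  · have := Nat.le_of_dvd (by norm_num) h
    interval_cases m <;> revert h <;> decide
  · have := Nat.le_of_dvd (by norm_num) h
    interval_cases m <;> revert h <;> decide

theorem ord_seven {M : Subgroup (T3 F)} (g : M) (h : 7 ∣ orderOf g) : orderOf g = 7 := by
  have h1 := orders hF (g : T3 F)
  rw [Subgroup.orderOf_coe] at h1
  omega

theorem ord_five {M : Subgroup (T3 F)} (g : M) (h : 5 ∣ orderOf g) : orderOf g = 5 := by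
  have h1 := orders hF (g : T3 F)
  rw [Subgroup.orderOf_coe] at h1
  omega

theorem not_sq_dvd {p : ℕ} (hp : p = 5 ∨ p = 7) (M : Subgroup (T3 F)) : ¬ p ^ 2 ∣ Nat.card M := by
  intro h
  have h1 := h.trans (Subgroup.card_subgroup_dvd_card M)
  rw [card_T3 hF] at h1
  rcases hp with rfl | rfl <;> revert h1 <;> decide

theorem count_five {M : Subgroup (T3 F)} (hM : 5 ∣ Nat.card M) :
    ∃ k n : ℕ, (k = 1 ∨ k = 2 ∨ k = 4) ∧ Nat.card M = 5 * k * n ∧ n % 5 = 1 := by
  have : Fact (Nat.Prime 5) := ⟨by norm_num⟩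
  obtain ⟨z, hz⟩ := exists_prime_orderOf_dvd_card' (G := M) 5 hM
  obtain ⟨k, n, -, hk, hn, hn1⟩ := syl_count (not_sq_dvd hF (Or.inl rfl) M) (ord_five hF) (zpowers z)
    (by rw [Nat.card_zpowers, hz])
  refine ⟨k, n, ?_, hn, hn1⟩
  have := Nat.le_of_dvd (by norm_num) hk
  interval_cases k <;> revert hk <;> decide

theorem card_norm_seven (P : Subgroup (T3 F)) (hP : Nat.card P = 7) : Nat.card (normalizer (P : Set (T3 F))) = 21 := by
  have : Fact (Nat.Prime 7) := ⟨by norm_num⟩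
  have h1 : ¬ 7 ^ 2 ∣ Nat.card (T3 F) := by rw [card_T3 hF]; decide
  obtain ⟨k, n, hN, hk, hn, hn1⟩ := syl_count h1 (fun g h => by
    have h1 := orders hF g
    omega) P hP
  rw [card_T3 hF] at hn
  have := Nat.le_of_dvd (by norm_num) hk
  rw [hN]
  have hk' : k = 1 ∨ k = 2 ∨ k = 3 ∨ k = 6 := by
    interval_cases k <;> revert hk <;> decide
  rcases hk' with rfl | rfl | rfl | rfl <;> omega

theorem count_seven {M : Subgroup (T3 F)} (hM : 7 ∣ Nat.card M) :
    ∃ k n : ℕ, (k = 1 ∨ k = 3) ∧ Nat.card M = 7 * k * n ∧ n % 7 = 1 := by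
  have : Fact (Nat.Prime 7) := ⟨by norm_num⟩
  obtain ⟨z, hz⟩ := exists_prime_orderOf_dvd_card' (G := M) 7 hM
  have hzc : Nat.card (zpowers z) = 7 := by rw [Nat.card_zpowers, hz]
  obtain ⟨k, n, hN, hk, hn, hn1⟩ := syl_count (not_sq_dvd hF (Or.inr rfl) M) (ord_seven hF) (zpowers z) hzc
  refine ⟨k, n, ?_, hn, hn1⟩
  -- the normaliser of the image
  have h1 : Nat.card ((zpowers z).map M.subtype) = 7 := by
    rw [Subgroup.card_map_of_injective M.subtype_injective, hzc]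
  have h2 := card_norm_seven hF _ h1
  have h3 : (normalizer ((zpowers z : Subgroup M) : Set M)).map M.subtype ≤
      normalizer (((zpowers z).map M.subtype : Subgroup (T3 F)) : Set (T3 F)) := Subgroup.le_normalizer_map _
  have h4 := Subgroup.card_dvd_of_le h3
  rw [Subgroup.card_map_of_injective M.subtype_injective, h2, hN] at h4
  have h5 : k ∣ 3 := by
    have : 7 * k ∣ 7 * 3 := by norm_num; exact h4
    exact Nat.dvd_of_mul_dvd_mul_left (by norm_num) this
  exact (Nat.dvd_prime Nat.prime_three).1 h5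

theorem index_ge {M : Subgroup (T3 F)} (hM : M ≠ ⊤) : 21 ≤ M.index := by
  have h1 := (S2140.result (F := F) hF.card 3 le_rfl (by norm_num)).1 M hM
  norm_num at h1
  exact h1

/-- no proper subgroup of order divisible by `35` -/
theorem no_thirtyfive {M : Subgroup (T3 F)} (hM : M ≠ ⊤) (h5 : 5 ∣ Nat.card M) (h7 : 7 ∣ Nat.card M) : False := by
  have h21 := index_ge hF hM
  have hc := Subgroup.card_mul_index M
  rw [card_T3 hF] at hc
  obtain ⟨k, n, hk, hn, hn1⟩ := count_seven hF h7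
  obtain ⟨k', n', hk', hn', hn1'⟩ := count_five hF h5
  obtain ⟨m, hm⟩ : ∃ m, Nat.card M = 35 * m := by
    obtain ⟨a, ha⟩ := h5
    obtain ⟨b, hb⟩ := h7
    exact ⟨3 * b - 2 * a, by omega⟩
  have hcm : m * M.index = 576 := by
    rw [hm] at hc
    have : 35 * (m * M.index) = 35 * 576 := by rw [← mul_assoc, hc]
    exact Nat.eq_of_mul_eq_mul_left (by norm_num) this
  have hm27 : m ≤ 27 := by
    by_contra h
    have : 28 * 21 ≤ m * M.index := Nat.mul_le_mul (by omega) h21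
    omega
  have key : m = 3 := by
    rw [hm] at hn hn'
    generalize M.index = i at hcm h21
    interval_cases m <;> first
      | omega
      | (rcases hk with rfl | rfl <;> rcases hk' with rfl | rfl | rfl <;> omega)
  rw [key] at hm
  obtain ⟨x, y, hxy⟩ := exists_big_order (G := M) (by
    rw [hm, show 35 * 3 = 3 * (5 * 7) by norm_num]
    have h5 : Squarefree (5 * 7) :=
      (Nat.squarefree_mul (by norm_num)).2 ⟨Nat.prime_five.prime.squarefree, Nat.prime_seven.prime.squarefree⟩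
    exact (Nat.squarefree_mul (by norm_num)).2 ⟨Nat.prime_three.prime.squarefree, h5⟩)
  have hx := orders hF (x : T3 F)
  have hy := orders hF (y : T3 F)
  rw [Subgroup.orderOf_coe] at hx hy
  have h8 := Nat.le_of_dvd (Nat.mul_pos (orderOf_pos x) (orderOf_pos y)) hxy
  rw [hm] at h8
  have h9 : orderOf x ≤ 7 := by omega
  have h10 : orderOf y ≤ 7 := by omega
  have := Nat.mul_le_mul h9 h10
  omega

/-- no proper subgroup of order divisible by `7` and of index `1` modulo `3` -/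
theorem no_seven {M : Subgroup (T3 F)} (hM : M ≠ ⊤) (h3 : M.index ≡ 1 [MOD 3]) (h7 : 7 ∣ Nat.card M) : False := by
  have h21 := index_ge hF hM
  have hc := Subgroup.card_mul_index M
  rw [card_T3 hF] at hc
  obtain ⟨k, n, hk, hn, hn1⟩ := count_seven hF h7
  have h5 : ¬ 5 ∣ Nat.card M := fun h5 => no_thirtyfive hF hM h5 h7
  have h9 : 9 ∣ Nat.card M := by
    have h1 : Nat.Coprime 9 M.index := by
      have : Nat.Coprime 3 M.index := by
        rw [Nat.Prime.coprime_iff_not_dvd Nat.prime_three]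
        intro h
        have h3' : M.index % 3 = 1 % 3 := h3
        omega
      exact Nat.Coprime.pow_left 2 this
    exact h1.dvd_of_dvd_mul_right (by rw [hc]; norm_num)
  obtain ⟨m, hm⟩ : ∃ m, Nat.card M = 63 * m := by
    obtain ⟨a, ha⟩ := h9
    obtain ⟨b, hb⟩ := h7
    exact ⟨4 * a - 3 * b, by omega⟩
  have hcm : m * M.index = 320 := by
    rw [hm] at hc
    have : 63 * (m * M.index) = 63 * 320 := by rw [← mul_assoc, hc]
    exact Nat.eq_of_mul_eq_mul_left (by norm_num) this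
  have hm27 : m ≤ 15 := by
    by_contra h
    have : 16 * 21 ≤ m * M.index := Nat.mul_le_mul (by omega) h21
    omega
  have h3' : M.index % 3 = 1 := h3
  rw [hm] at hn h5
  generalize M.index = i at hcm h21 h3'
  interval_cases m <;> first
    | omega
    | (rcases hk with rfl | rfl <;> omega)

/-! ### Coatoms -/

theorem twoT {M : Subgroup (T3 F)} (hM : M ≠ ⊤) : TwoT (T3 F) M := by
  have hmiss : ∀ (p : ℕ), ¬ p ∣ Nat.card M → ∀ z : T3 F, orderOf z = p → ∀ g : T3 F, g * z * g⁻¹ ∉ M := by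
    intro p hp z hz g hg
    apply hp
    have h1 : orderOf (g * z * g⁻¹) = p := by rw [← hz, ← MulAut.conj_apply, MulEquiv.orderOf_eq]
    rw [← h1, ← Subgroup.orderOf_mk _ hg]
    exact orderOf_dvd_natCard _
  by_cases h7 : 7 ∣ Nat.card M
  · have h5 : ¬ 5 ∣ Nat.card M := fun h5 => no_thirtyfive hF hM h5 h7
    obtain ⟨w, hw⟩ := hF.exists_w
    have hy := orderOf_y hF hw
    refine ⟨pr F (Y5 w), (pr F (Y5 w)) ^ 2, hmiss 5 h5 _ hy, hmiss 5 h5 _ ?_, y_not_sq hF hw⟩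
    rw [orderOf_pow, hy]
    norm_num
  · have hx := orderOf_x hF
    exact ⟨pr F (C7 F), (pr F (C7 F))⁻¹, hmiss 7 h7 _ hx, hmiss 7 h7 _ (by rw [orderOf_inv, hx]), x_not_inv⟩

/-! ### Subgroups of index `1` modulo `3` -/

theorem part_three {R : Subgroup (T3 F)} (hR : R ≠ ⊤) (h3 : R.index ≡ 1 [MOD 3]) :
    ∃ x : T3 F, (∀ g : T3 F, g * x * g⁻¹ ∉ R) ∧ ∀ g : T3 F, g * x * g⁻¹ ≠ x⁻¹ := by
  refine ⟨pr F (C7 F), fun g hg => no_seven hF hR h3 ?_, x_not_inv⟩
  have h1 : orderOf (g * pr F (C7 F) * g⁻¹) = 7 := by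
    rw [← orderOf_x hF, ← MulAut.conj_apply, MulEquiv.orderOf_eq]
  rw [← h1, ← Subgroup.orderOf_mk _ hg]
  exact orderOf_dvd_natCard _

/-! ### Outer automorphisms -/

theorem card_out : Nat.card (Cfsg.Out (T3 F)) = 12 := by
  have : Fact (Nat.Prime 2) := ⟨Nat.prime_two⟩
  obtain ⟨φ, h1, -, h2⟩ := Cfsg.Agent.S2601.result (F := F) (p := 2) (f := 2) (n := 3) (by norm_num)
    (by rw [hF.card]; norm_num) le_rfl
  have h3 := Subgroup.card_mul_index φ.ker
  rw [h2, Subgroup.index_ker, MonoidHom.range_eq_top.2 h1, Subgroup.card_top] at h3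
  have h4 : Nat.card (Multiplicative (ZMod 2 × ZMod 2)) = 4 := by
    rw [Nat.card_congr Multiplicative.toAdd, Nat.card_prod, Nat.card_zmod]
  rw [h4] at h3
  rw [← h3]
  decide

/-! ### Subgroups of odd index -/

theorem pGroup_U : IsPGroup 2 ((U F).map (pr F)) := by
  rintro ⟨_, M, ⟨a, b, c, rfl⟩, rfl⟩
  refine ⟨2, Subtype.ext ?_⟩
  show (pr F (ut a b c)) ^ (2 ^ 2) = 1
  rw [← map_pow]
  have h1 : (ut a b c) ^ (2 ^ 2) = 1 := by
    rw [show (2 : ℕ) ^ 2 = 2 * 2 by norm_num, pow_mul, sq, sq, ut_mul, ut_mul, ← ut_zero]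
    have h2 := hF.add_self
    congr 1
    · rw [h2 a, add_zero]
    · rw [h2 a, zero_mul, add_zero, h2]
    · rw [h2 c, add_zero]
  rw [h1, map_one]

theorem exists_conj {R : Subgroup (T3 F)} (hR : Odd R.index) :
    ∃ g : T3 F, (U F).map (pr F) ≤ R.comap (MulAut.conj g).toMonoidHom := by
  have : Fact (Nat.Prime 2) := ⟨Nat.prime_two⟩
  have h1 : ¬ 2 ∣ Nat.card (T3 F ⧸ R) := by
    rw [← Subgroup.index_eq_card, ← even_iff_two_dvd, Nat.not_even_iff_odd]
    exact hR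
  obtain ⟨q, hq⟩ := (pGroup_U hF).nonempty_fixed_point_of_prime_not_dvd_card (T3 F ⧸ R) h1
  obtain ⟨t, rfl⟩ := QuotientGroup.mk_surjective q
  refine ⟨t⁻¹, fun u hu => ?_⟩
  have h2 := hq ⟨u, hu⟩
  have h3 : ((u * t : T3 F) : T3 F ⧸ R) = (t : T3 F ⧸ R) := h2
  have h4 := QuotientGroup.eq.1 h3
  rw [mem_comap]
  show t⁻¹ * u * t⁻¹⁻¹ ∈ R
  rw [inv_inv]
  have h5 := R.inv_mem h4
  simpa [mul_assoc] using h5

/-- `x` misses the stabilisers of points and lines -/
theorem miss1 {R : Subgroup (T3 F)} (h : R.comap (pr F) ≤ P1 F) (g : T3 F) : g * pr F (C7 F) * g⁻¹ ∉ R := by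
  obtain ⟨G, rfl⟩ := pr_surj g
  intro h1
  rw [← map_mul, ← map_inv, ← map_mul] at h1
  obtain ⟨h2, h3⟩ := h h1
  have h4 := conj_cube (C7_cube (F := F)) G
  obtain ⟨A, hA⟩ : ∃ A : M3 F, A = (G * C7 F * G⁻¹).1 := ⟨_, rfl⟩
  rw [← hA] at h2 h3 h4
  have h5 := congrFun (congrFun h4 0) 0
  apply hF.no_root_one (a := A 0 0)
  rw [pow_succ, pow_succ, pow_one, mul_apply, Fin.sum_univ_three, mul_apply, Fin.sum_univ_three, h2, h3, mul_zero,
    mul_zero, mul_zero, mul_zero] at h5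
  rw [Matrix.add_apply, one_apply_eq] at h5
  linear_combination h5

theorem miss2 {R : Subgroup (T3 F)} (h : R.comap (pr F) ≤ P2 F) (g : T3 F) : g * pr F (C7 F) * g⁻¹ ∉ R := by
  obtain ⟨G, rfl⟩ := pr_surj g
  intro h1
  rw [← map_mul, ← map_inv, ← map_mul] at h1
  obtain ⟨h2, h3⟩ := h h1
  have h4 := conj_cube (C7_cube (F := F)) G
  obtain ⟨A, hA⟩ : ∃ A : M3 F, A = (G * C7 F * G⁻¹).1 := ⟨_, rfl⟩
  rw [← hA] at h2 h3 h4
  have h5 := congrFun (congrFun h4 2) 2
  apply hF.no_root_one (a := A 2 2)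
  rw [Matrix.add_apply, one_apply_eq] at h5
  rw [← h5]
  simp [pow_succ, mul_apply, Fin.sum_univ_three, h2, h3]

omit hF [Fintype F] in
theorem inv_miss {R : Subgroup (T3 F)} {x : T3 F} (h : ∀ g : T3 F, g * x * g⁻¹ ∉ R) (g : T3 F) : g * x⁻¹ * g⁻¹ ∉ R := by
  intro h1
  apply h g
  have h2 := R.inv_mem h1
  have e : (g * x⁻¹ * g⁻¹)⁻¹ = g * x * g⁻¹ := by group
  rwa [e] at h2

/-- upper triangular matrices -/
def Tri (A : M3 F) : Prop := A 1 0 = 0 ∧ A 2 0 = 0 ∧ A 2 1 = 0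

omit hF [Fintype F] in
theorem Tri.mul {A B : M3 F} (hA : Tri A) (hB : Tri B) : Tri (A * B) ∧ ∀ i, (A * B) i i = A i i * B i i := by
  obtain ⟨h1, h2, h3⟩ := hA
  obtain ⟨h4, h5, h6⟩ := hB
  refine ⟨⟨?_, ?_, ?_⟩, fun i => ?_⟩
  · rw [mul_apply, Fin.sum_univ_three, h1, h4, h5]; ring
  · rw [mul_apply, Fin.sum_univ_three, h2, h4, h5]; ring
  · rw [mul_apply, Fin.sum_univ_three, h2, h3, h6]; ring
  · rw [mul_apply, Fin.sum_univ_three]
    fin_cases i
    · show A 0 0 * B 0 0 + A 0 1 * B 1 0 + A 0 2 * B 2 0 = A 0 0 * B 0 0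
      rw [h4, h5]; ring
    · show A 1 0 * B 0 1 + A 1 1 * B 1 1 + A 1 2 * B 2 1 = A 1 1 * B 1 1
      rw [h1, h6]; ring
    · show A 2 0 * B 0 2 + A 2 1 * B 1 2 + A 2 2 * B 2 2 = A 2 2 * B 2 2
      rw [h2, h3]; ring

omit hF [Fintype F] in
theorem Tri.pow {A : M3 F} (hA : Tri A) (n : ℕ) : Tri (A ^ (n + 1)) ∧ ∀ i, (A ^ (n + 1)) i i = (A i i) ^ (n + 1) := by
  induction n with
  | zero => simpa using hA
  | succ n ih =>
    rw [pow_succ A (n + 1)]
    have h1 := ih.1.mul hA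
    exact ⟨h1.1, fun i => by rw [h1.2, ih.2, ← pow_succ]⟩

/-- elements of order five miss the stabilisers of flags -/
theorem miss3 {R : Subgroup (T3 F)} (h1 : R.comap (pr F) ≤ P1 F) (h2 : R.comap (pr F) ≤ P2 F) {w : F}
    (hw : w ^ 2 = w + 1) (g : T3 F) : g * pr F (Y5 w) * g⁻¹ ∉ R := by
  obtain ⟨G, rfl⟩ := pr_surj g
  intro h3
  rw [← map_mul, ← map_inv, ← map_mul] at h3
  have h4 : Tri (G * Y5 w * G⁻¹).1 := ⟨(h1 h3).1, (h1 h3).2, (h2 h3).2⟩
  have h5 := h4.pow 4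
  rw [← vpow, conj_pow, Y5_pow hF hw, mul_one, mul_inv_cancel, vone] at h5
  have h6 : ∀ i, (G * Y5 w * G⁻¹).1 i i = 1 := fun i => hF.pow_five (by rw [← h5.2, one_apply_eq])
  have h7 := conj_trace (Y5 w) G
  rw [trace_fin_three, h6, h6, h6] at h7
  have h8 : (Y5 w).1.trace = 1 + w := by simp [Y5, trace_fin_three]
  rw [h8] at h7
  have hw0 : w = 0 := by linear_combination -h7 + hF.two
  rw [hw0] at hw
  simp at hw

theorem bar1_ne_top : (P1 F).map (pr F) ≠ ⊤ := by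
  intro h
  apply miss1 hF (R := (P1 F).map (pr F)) (fun A hA => mem_bar1.1 hA) 1
  rw [h]; trivial

theorem bar2_ne_top : (P2 F).map (pr F) ≠ ⊤ := by
  intro h
  apply miss2 hF (R := (P2 F).map (pr F)) (fun A hA => mem_bar2.1 hA) 1
  rw [h]; trivial

omit hF [Fintype F] in
theorem map_ne_top {Q : Subgroup (T3 F)} (φ : T3 F ≃* T3 F) (h : Q ≠ ⊤) : Q.map φ.toMonoidHom ≠ ⊤ := by
  intro h1
  apply h
  rw [eq_top_iff]
  intro x _
  have h2 : φ x ∈ Q.map φ.toMonoidHom := by rw [h1]; trivial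
  obtain ⟨y, hy, h3⟩ := h2
  have h4 : y = x := φ.injective h3
  rwa [← h4]

omit hF in
theorem eq_of_map_le {Q : Subgroup (T3 F)} (φ : T3 F ≃* T3 F) (h : Q.map φ.toMonoidHom ≤ Q) :
    Q.map φ.toMonoidHom = Q := by
  apply SetLike.coe_injective
  apply Set.eq_of_subset_of_ncard_le h
  have h1 : Nat.card (Q.map φ.toMonoidHom) = Nat.card Q := Subgroup.card_map_of_injective φ.injective
  exact h1.ge

theorem part_two_aux {R : Subgroup (T3 F)} (hR : R ≠ ⊤) (hU : (U F).map (pr F) ≤ R) : TwoR (T3 F) R := by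
  have hx := orderOf_x hF
  by_cases h1 : R.comap (pr F) ≤ P1 F
  · by_cases h2 : R.comap (pr F) ≤ P2 F
    · obtain ⟨w, hw⟩ := hF.exists_w
      have hy := orderOf_y hF hw
      refine ⟨pr F (C7 F), pr F (Y5 w), miss1 hF h1, miss3 hF h1 h2 hw, fun φ _ g h3 => ?_⟩
      have h4 : orderOf (g * φ (pr F (C7 F)) * g⁻¹) = 7 := by
        rw [← MulAut.conj_apply, MulEquiv.orderOf_eq, MulEquiv.orderOf_eq, hx]
      rw [h3, hy] at h4
      norm_num at h4
    · have hRP : R ≤ (P1 F).map (pr F) := by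
        intro y hy
        obtain ⟨Y, rfl⟩ := pr_surj y
        exact mem_bar1.2 (h1 hy)
      refine ⟨pr F (C7 F), (pr F (C7 F))⁻¹, miss1 hF h1, inv_miss (miss1 hF h1), fun φ hφ g => no_fuse1 hF φ ?_ g⟩
      have h3 : R ≤ ((P1 F).map (pr F)).map φ.toMonoidHom := by
        rw [← hφ]
        exact Subgroup.map_mono hRP
      rcases or_of_le hF _ (map_ne_top φ (bar1_ne_top hF)) (hU.trans h3) with h4 | h4
      · apply eq_of_map_le
        intro y hy
        obtain ⟨Y, rfl⟩ := pr_surj y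
        exact mem_bar1.2 (h4 hy)
      · exact absurd ((Subgroup.comap_mono h3).trans h4) h2
  · have h2 : R.comap (pr F) ≤ P2 F := (or_of_le hF R hR hU).resolve_left h1
    have hRP : R ≤ (P2 F).map (pr F) := by
      intro y hy
      obtain ⟨Y, rfl⟩ := pr_surj y
      exact mem_bar2.2 (h2 hy)
    refine ⟨pr F (C7 F), (pr F (C7 F))⁻¹, miss2 hF h2, inv_miss (miss2 hF h2), fun φ hφ g => no_fuse2 hF φ ?_ g⟩
    have h3 : R ≤ ((P2 F).map (pr F)).map φ.toMonoidHom := by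
      rw [← hφ]
      exact Subgroup.map_mono hRP
    rcases or_of_le hF _ (map_ne_top φ (bar2_ne_top hF)) (hU.trans h3) with h4 | h4
    · exact absurd ((Subgroup.comap_mono h3).trans h4) h1
    · apply eq_of_map_le
      intro y hy
      obtain ⟨Y, rfl⟩ := pr_surj y
      exact mem_bar2.2 (h4 hy)

theorem part_two {R : Subgroup (T3 F)} (hR : R ≠ ⊤) (hodd : Odd R.index) : TwoR (T3 F) R := by
  obtain ⟨g, hg⟩ := exists_conj hF hodd
  exact TwoR.congr (MulAut.conj g) (part_two_aux hF (comap_ne_top (MulAut.conj g) hR) hg)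

omit hF in
/-- **The row for `PSL₃(4)`.** -/
theorem rowThree_psl34 (hF : Fintype.card F = 4) :
    RowThree (Matrix.ProjectiveSpecialLinearGroup (Fin 3) F) := by
  have h4 := f4_of hF
  refine ⟨fun M hM => twoT h4 hM.1, ?_, fun R hR hodd => Or.inl (part_two h4 hR hodd),
    fun R hR h3 => Or.inr (part_three h4 hR h3)⟩
  have h5 : Nat.card (Cfsg.Out (Matrix.ProjectiveSpecialLinearGroup (Fin 3) F)) = 12 := card_out h4
  rw [h5]

end Cfsg.Agent.H97.Der
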