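import Cfsg.Agent.H97.Der.L34Mat

/-!
# Elements of order five and seven of `PSL₃(4)`, points and lines (S3500, row `PSL₃(4)`)
-/

set_option autoImplicit false

namespace Cfsg.Agent.H97.Der

open Matrix Subgroup

variable {F : Type*} [Field F]

abbrev T3 (F : Type*) [Field F] := Matrix.ProjectiveSpecialLinearGroup (Fin 3) F

theorem vmul (A B : SL3 F) : (A * B).1 = A.1 * B.1 := rfl

theorem vone : (1 : SL3 F).1 = 1 := rfl

theorem vpow (A : SL3 F) (n : ℕ) : (A ^ n).1 = A.1 ^ n := by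
  induction n with
  | zero => rw [pow_zero, pow_zero, vone]
  | succ n ih => rw [pow_succ, pow_succ, vmul, ih]

theorem sext {A B : SL3 F} (h : A.1 = B.1) : A = B := Subtype.ext h

/-- the projection -/
abbrev pr (F : Type*) [Field F] : SL3 F →* T3 F := QuotientGroup.mk' (center (SL3 F))

theorem pr_surj (g : T3 F) : ∃ G : SL3 F, pr F G = g := QuotientGroup.mk'_surjective _ g

theorem pr_eq {A B : SL3 F} (h : pr F A = pr F B) : ∃ r : F, r ^ 3 = 1 ∧ B.1 = r • A.1 := by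
  have h1 : A⁻¹ * B ∈ center (SL3 F) := QuotientGroup.eq.1 h
  obtain ⟨r, hr, h2⟩ := Matrix.SpecialLinearGroup.mem_center_iff.1 h1
  refine ⟨r, by simpa using hr, ?_⟩
  have h3 : B.1 = A.1 * (A⁻¹ * B).1 := by rw [← vmul, mul_inv_cancel_left]
  have h4 : (A⁻¹ * B).1 = r • (1 : M3 F) := by
    rw [smul_one_eq_diagonal]
    exact h2.symm
  rw [h3, h4, mul_smul_comm, mul_one]

theorem pr_eq_one {A : SL3 F} (h : pr F A = 1) : ∃ r : F, r ^ 3 = 1 ∧ A.1 = r • (1 : M3 F) := by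
  obtain ⟨r, hr, h1⟩ := pr_eq (A := 1) (B := A) (by rw [h, map_one])
  exact ⟨r, hr, h1⟩

/-- the element of order seven -/
def C7 (F : Type*) [Field F] : SL3 F := ⟨!![0, 0, 1; 1, 0, 1; 0, 1, 0], by simp [det_fin_three]⟩

theorem C7_cube : (C7 F).1 ^ 3 = (C7 F).1 + 1 := by
  ext i j
  fin_cases i <;> fin_cases j <;> simp [C7, pow_succ, mul_apply, Fin.sum_univ_three]

/-- the element of order five -/
def Y5 (w : F) : SL3 F := ⟨!![1, 0, 0; 0, 0, -1; 0, 1, w], by simp [det_fin_three]⟩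

section

variable [Fintype F] (hF : F4 F)

include hF

omit [Fintype F] hF in
theorem pow_seven {X : M3 F} (h2 : (2 : M3 F) = 0) (h : X ^ 3 = X + 1) : X ^ 7 = 1 := by
  have e1 : X * X * X = X + 1 := by rw [← h]; noncomm_ring
  calc X ^ 7 = (X * X * X) * (X * X * X) * X := by noncomm_ring
    _ = (X + 1) * (X + 1) * X := by rw [e1]
    _ = X * X * X + 2 * (X * X) + X := by noncomm_ring
    _ = X + 1 + 2 * (X * X) + X := by rw [e1]
    _ = 2 * X + 2 * (X * X) + 1 := by noncomm_ring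
    _ = 1 := by rw [h2]; simp

theorem two_mat : (2 : M3 F) = 0 := by
  have h1 : (2 : M3 F) = (2 : F) • (1 : M3 F) := by rw [two_smul, one_add_one_eq_two]
  rw [h1, hF.two, zero_smul]

theorem C7_pow : (C7 F) ^ 7 = 1 := by
  apply sext
  rw [vpow, vone]
  exact pow_seven (two_mat hF) C7_cube

theorem Y5_pow {w : F} (hw : w ^ 2 = w + 1) : (Y5 w) ^ 5 = 1 := by
  apply sext
  rw [vpow, vone]
  ext i j
  fin_cases i <;> fin_cases j <;> simp [Y5, pow_succ, mul_apply, Fin.sum_univ_three]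
  · linear_combination (-(w + 1)) * hw - hF.two
  · linear_combination (-(w ^ 2 + w - 1)) * hw
  · linear_combination (w ^ 2 + w - 1) * hw
  · linear_combination (w ^ 3 + w ^ 2 - 2 * w - 1) * hw - hF.two

omit [Fintype F] hF in
theorem conj_cube {A : SL3 F} (hA : A.1 ^ 3 = A.1 + 1) (G : SL3 F) :
    (G * A * G⁻¹).1 ^ 3 = (G * A * G⁻¹).1 + 1 := by
  have h1 : (G * A * G⁻¹) ^ 3 = G * A ^ 3 * G⁻¹ := by
    rw [pow_succ, pow_succ, pow_one, pow_succ A, pow_succ A, pow_one]; group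
  have h2 : G.1 * (G⁻¹).1 = 1 := by rw [← vmul, mul_inv_cancel, vone]
  rw [← vpow, h1, vmul, vmul, vpow, hA, mul_add, add_mul, mul_one, h2, vmul, vmul]

omit [Fintype F] hF in
theorem C7_ne : pr F (C7 F) ≠ 1 := by
  intro h
  obtain ⟨r, -, h1⟩ := pr_eq_one h
  have h2 := congrFun (congrFun h1 1) 0
  simp [C7] at h2

omit [Fintype F] hF in
theorem Y5_ne (w : F) : pr F (Y5 w) ≠ 1 := by
  intro h
  obtain ⟨r, -, h1⟩ := pr_eq_one h
  have h2 := congrFun (congrFun h1 2) 1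
  simp [Y5] at h2

theorem orderOf_x : orderOf (pr F (C7 F)) = 7 := by
  have : Fact (Nat.Prime 7) := ⟨by norm_num⟩
  exact orderOf_eq_prime (by rw [← map_pow, C7_pow hF, map_one]) C7_ne

theorem orderOf_y {w : F} (hw : w ^ 2 = w + 1) : orderOf (pr F (Y5 w)) = 5 := by
  have : Fact (Nat.Prime 5) := ⟨by norm_num⟩
  exact orderOf_eq_prime (by rw [← map_pow, Y5_pow hF hw, map_one]) (Y5_ne w)

omit [Fintype F] hF in
theorem inv_sq {A : M3 F} {D : M3 F} (hA : A ^ 3 = A + 1) (h : D * A = 1) : D ^ 3 = 1 - D ^ 2 := by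
  have h1 : D ^ 3 * A ^ 3 = 1 := by
    calc D ^ 3 * A ^ 3 = D * (D * (D * A) * A) * A := by noncomm_ring
      _ = 1 := by rw [h, mul_one, h, mul_one, h]
  rw [hA, mul_add, mul_one] at h1
  have h2 : D ^ 3 * A = D ^ 2 := by
    rw [pow_succ, mul_assoc, h, mul_one]
  rw [h2] at h1
  rw [← h1]
  noncomm_ring

omit [Fintype F] hF in
theorem aux_inv {A D : M3 F} {s : F} (h3 : D * A = 1) (h : -(D ^ 2) = s • D) : -(1 : M3 F) = s • A := by
  have e : D ^ 2 * A * A = 1 := by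
    calc D ^ 2 * A * A = D * (D * A) * A := by noncomm_ring
      _ = 1 := by rw [h3, mul_one, h3]
  calc -(1 : M3 F) = -(D ^ 2) * A * A := by rw [neg_mul, neg_mul, e]
    _ = s • A := by rw [h, smul_mul_assoc, smul_mul_assoc, h3, one_mul]

omit [Fintype F] hF in
theorem x_not_inv (g : T3 F) : g * pr F (C7 F) * g⁻¹ ≠ (pr F (C7 F))⁻¹ := by
  obtain ⟨G, rfl⟩ := pr_surj g
  intro h
  rw [← map_mul, ← map_inv, ← map_mul, ← map_inv] at h
  obtain ⟨r, hr, h1⟩ := pr_eq h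
  have h2 := conj_cube (C7_cube (F := F)) G
  have h3 : (C7 F)⁻¹.1 * (C7 F).1 = 1 := by rw [← vmul, inv_mul_cancel, vone]
  have h4 := inv_sq C7_cube h3
  -- `D = r A`
  have h5 : (C7 F)⁻¹.1 ^ 3 = (G * C7 F * G⁻¹).1 + 1 := by rw [h1, smul_pow, hr, one_smul, h2]
  have h6 : (G * C7 F * G⁻¹).1 = r ^ 2 • (C7 F)⁻¹.1 := by
    rw [h1, smul_smul, ← pow_succ, hr, one_smul]
  rw [h4, h6] at h5
  have h7 : -((C7 F)⁻¹.1 ^ 2) = r ^ 2 • (C7 F)⁻¹.1 := by
    have := congrArg (fun X => X - 1) h5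
    simpa [sub_eq_add_neg, add_comm, add_left_comm] using this
  have h8 := aux_inv h3 h7
  have h9 := congrFun (congrFun h8 0) 0
  simp [C7] at h9

omit [Fintype F] hF in
theorem conj_trace (A G : SL3 F) : (G * A * G⁻¹).1.trace = A.1.trace := by
  rw [vmul, trace_mul_comm, ← vmul, inv_mul_cancel_left]

theorem y_not_sq {w : F} (hw : w ^ 2 = w + 1) (g : T3 F) : g * pr F (Y5 w) * g⁻¹ ≠ (pr F (Y5 w)) ^ 2 := by
  obtain ⟨G, rfl⟩ := pr_surj g
  intro h
  rw [← map_mul, ← map_inv, ← map_mul, ← map_pow] at h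
  obtain ⟨r, hr, h1⟩ := pr_eq h
  have h2 : r ^ 5 = 1 := by
    have h3 : (G * Y5 w * G⁻¹) ^ 5 = 1 := by
      rw [conj_pow, Y5_pow hF hw]; group
    have h4 : ((Y5 w) ^ 2) ^ 5 = 1 := by rw [← pow_mul, mul_comm, pow_mul, Y5_pow hF hw, one_pow]
    have h5 : (Y5 w ^ 2).1 ^ 5 = (r • (G * Y5 w * G⁻¹).1) ^ 5 := by rw [h1]
    rw [smul_pow, ← vpow, ← vpow, h3, h4, vone] at h5
    have h6 := congrFun (congrFun h5 0) 0
    simpa using h6.symm
  rw [hF.pow_five h2, one_smul] at h1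
  have h7 := congrArg Matrix.trace h1
  rw [conj_trace, vpow] at h7
  simp [Y5, trace_fin_three, pow_succ] at h7
  exact one_ne_zero (α := F) (by linear_combination -h7 + hw)

end

end Cfsg.Agent.H97.Der
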