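import Cfsg.Agent.H97.Der.L34Par

/-!
# Automorphisms leaving a point or line stabiliser invariant (S3500, row `PSL₃(4)`)
-/

set_option autoImplicit false

namespace Cfsg.Agent.H97.Der

open Matrix Subgroup

section inv

variable {T : Type*} [Group T]

/-- the invariant: an involution in three conjugates of `R` -/
def Inv (R : Subgroup T) (z : T) : Prop :=
  ∃ t v : T, v ≠ 1 ∧ v * v = 1 ∧ v ∈ R ∧ (t * z * t⁻¹)⁻¹ * v * (t * z * t⁻¹) ∈ R ∧
    ((t * z * t⁻¹) ^ 3)⁻¹ * v * (t * z * t⁻¹) ^ 3 ∈ R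

theorem Inv.map {R : Subgroup T} {z : T} (h : Inv R z) (φ : T ≃* T) (hφ : R.map φ.toMonoidHom = R) :
    Inv R (φ z) := by
  obtain ⟨t, v, h1, h2, h3, h4, h5⟩ := h
  have hm : ∀ a : T, a ∈ R → φ a ∈ R := fun a ha => by
    rw [← hφ]
    exact ⟨a, ha, rfl⟩
  refine ⟨φ t, φ v, fun h => h1 ?_, by rw [← map_mul, h2, map_one], hm _ h3, ?_, ?_⟩
  · rwa [map_eq_one_iff φ φ.injective] at h
  · simpa using hm _ h4
  · simpa using hm _ h5

theorem Inv.conj {R : Subgroup T} {z : T} (h : Inv R z) (g : T) : Inv R (g * z * g⁻¹) := by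
  obtain ⟨t, v, h1, h2, h3, h4, h5⟩ := h
  have e : (t * g⁻¹) * (g * z * g⁻¹) * (t * g⁻¹)⁻¹ = t * z * t⁻¹ := by group
  refine ⟨t * g⁻¹, v, h1, h2, h3, ?_, ?_⟩
  · rw [e]; exact h4
  · rw [e]; exact h5

end inv

variable {F : Type*} [Field F]

/-- basis vectors -/
abbrev e0 (F : Type*) [Field F] : Fin 3 → F := ![1, 0, 0]

abbrev e2 (F : Type*) [Field F] : Fin 3 → F := ![0, 0, 1]

theorem mem_P1_iff {A : SL3 F} : A ∈ P1 F ↔ ∃ s : F, A.1 *ᵥ e0 F = s • e0 F := by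
  rw [mem_P1]
  constructor
  · rintro ⟨h1, h2⟩
    refine ⟨A.1 0 0, ?_⟩
    ext i
    fin_cases i <;> simp [mulVec, dotProduct, Fin.sum_univ_three, h1, h2]
  · rintro ⟨s, h⟩
    have h1 := congrFun h 1
    have h2 := congrFun h 2
    simp [mulVec, dotProduct, Fin.sum_univ_three] at h1 h2
    exact ⟨h1, h2⟩

theorem mem_P2_iff {A : SL3 F} : A ∈ P2 F ↔ ∃ s : F, A.1ᵀ *ᵥ e2 F = s • e2 F := by
  rw [mem_P2]
  constructor
  · rintro ⟨h1, h2⟩
    refine ⟨A.1 2 2, ?_⟩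
    ext i
    fin_cases i <;> simp [mulVec, dotProduct, Fin.sum_univ_three, h1, h2]
  · rintro ⟨s, h⟩
    have h1 := congrFun h 0
    have h2 := congrFun h 1
    simp [mulVec, dotProduct, Fin.sum_univ_three] at h1 h2
    exact ⟨h1, h2⟩

theorem vinv (A : SL3 F) : (A⁻¹).1 * A.1 = 1 := by rw [← vmul, inv_mul_cancel, vone]

theorem vinv' (A : SL3 F) : A.1 * (A⁻¹).1 = 1 := by rw [← vmul, mul_inv_cancel, vone]

theorem conj1 {A V : SL3 F} : A⁻¹ * V * A ∈ P1 F ↔ ∃ s : F, V.1 *ᵥ (A.1 *ᵥ e0 F) = s • (A.1 *ᵥ e0 F) := by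
  rw [mem_P1_iff]
  refine exists_congr fun s => ?_
  rw [vmul, vmul, ← mulVec_mulVec, ← mulVec_mulVec]
  constructor
  · intro h
    have h1 := congrArg (fun w => A.1 *ᵥ w) h
    simp only [mulVec_mulVec, mulVec_smul] at h1
    rw [← mul_assoc, vinv', one_mul, ← mulVec_mulVec] at h1
    exact h1
  · intro h
    rw [h, mulVec_smul, mulVec_mulVec, vinv, one_mulVec]

theorem conj2 {A V : SL3 F} : A⁻¹ * V * A ∈ P2 F ↔
    ∃ s : F, V.1ᵀ *ᵥ ((A⁻¹).1ᵀ *ᵥ e2 F) = s • ((A⁻¹).1ᵀ *ᵥ e2 F) := by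
  rw [mem_P2_iff]
  refine exists_congr fun s => ?_
  have i1 : A.1ᵀ * (A⁻¹).1ᵀ = 1 := by rw [← transpose_mul, vinv, transpose_one]
  have i2 : (A⁻¹).1ᵀ * A.1ᵀ = 1 := by rw [← transpose_mul, vinv', transpose_one]
  rw [vmul, vmul, transpose_mul, transpose_mul]
  constructor
  · intro h
    have h1 := congrArg (fun w => (A⁻¹).1ᵀ *ᵥ w) h
    simp only [mulVec_mulVec, mulVec_smul] at h1
    rw [← mul_assoc, i2, one_mul] at h1
    rw [mulVec_mulVec]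
    exact h1
  · intro h
    rw [← mulVec_mulVec, ← mulVec_mulVec, h, mulVec_smul, mulVec_mulVec, i1, one_mulVec]

theorem mem_bar1 {A : SL3 F} : pr F A ∈ (P1 F).map (pr F) ↔ A ∈ P1 F := by
  constructor
  · rintro ⟨B, ⟨h1, h2⟩, h⟩
    obtain ⟨r, -, h3⟩ := pr_eq h
    exact ⟨by rw [h3, Matrix.smul_apply, h1, smul_zero], by rw [h3, Matrix.smul_apply, h2, smul_zero]⟩
  · intro h
    exact ⟨A, h, rfl⟩

theorem mem_bar2 {A : SL3 F} : pr F A ∈ (P2 F).map (pr F) ↔ A ∈ P2 F := by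
  constructor
  · rintro ⟨B, ⟨h1, h2⟩, h⟩
    obtain ⟨r, -, h3⟩ := pr_eq h
    exact ⟨by rw [h3, Matrix.smul_apply, h1, smul_zero], by rw [h3, Matrix.smul_apply, h2, smul_zero]⟩
  · intro h
    exact ⟨A, h, rfl⟩

theorem ut_ne : pr F (ut 0 1 0) ≠ 1 := by
  intro h
  obtain ⟨r, -, h1⟩ := pr_eq_one h
  have h2 := congrFun (congrFun h1 0) 2
  simp [ut] at h2

theorem C7_e0 : (C7 F).1 *ᵥ e0 F = ![0, 1, 0] := by
  ext i
  fin_cases i <;> simp [C7]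

theorem C7_e2 : (C7 F).1ᵀ *ᵥ e2 F = ![0, 1, 0] := by
  ext i
  fin_cases i <;> simp [C7, mulVec, dotProduct, Fin.sum_univ_three]

section

variable [Fintype F] (hF : F4 F)

include hF

theorem ut_sq : pr F (ut 0 1 0) * pr F (ut 0 1 0) = 1 := by
  rw [← map_mul, ut_mul]
  have : ut ((0 : F) + 0) (1 + 0 * 0 + 1) (0 + 0) = 1 := by
    rw [← ut_zero]
    congr 1
    · ring
    · linear_combination hF.two
    · ring
  rw [this, map_one]

theorem pos1 : Inv ((P1 F).map (pr F)) (pr F (C7 F)) := by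
  refine ⟨1, pr F (ut 0 1 0), ut_ne, ut_sq hF, ?_, ?_, ?_⟩
  · rw [mem_bar1]; exact ⟨rfl, rfl⟩
  · rw [one_mul, inv_one, mul_one, ← map_inv, ← map_mul, ← map_mul, mem_bar1, conj1]
    refine ⟨1, ?_⟩
    rw [C7_e0, one_smul]
    ext i
    fin_cases i <;> simp [ut]
  · rw [one_mul, inv_one, mul_one, ← map_pow, ← map_inv, ← map_mul, ← map_mul, mem_bar1, conj1]
    refine ⟨1, ?_⟩
    rw [vpow, C7_cube, add_mulVec, C7_e0, one_mulVec, one_smul]
    ext i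
    fin_cases i <;> simp [ut]

theorem pos2 : Inv ((P2 F).map (pr F)) (pr F (C7 F))⁻¹ := by
  refine ⟨1, pr F (ut 0 1 0), ut_ne, ut_sq hF, ?_, ?_, ?_⟩
  · rw [mem_bar2]; exact ⟨rfl, rfl⟩
  · rw [one_mul, inv_one, mul_one, ← map_inv, ← map_inv, ← map_mul, ← map_mul, mem_bar2, conj2]
    refine ⟨1, ?_⟩
    rw [inv_inv, C7_e2, one_smul]
    ext i
    fin_cases i <;> simp [ut, mulVec, dotProduct, Fin.sum_univ_three]
  · rw [one_mul, inv_one, mul_one, ← map_inv, ← map_pow, ← map_inv, ← map_mul, ← map_mul, mem_bar2, conj2]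
    refine ⟨1, ?_⟩
    rw [inv_pow, inv_inv, vpow, C7_cube, transpose_add, transpose_one, add_mulVec, C7_e2, one_mulVec, one_smul]
    ext i
    fin_cases i <;> simp [ut, mulVec, dotProduct, Fin.sum_univ_three]

/-- the matrix equation of the inverse -/
theorem conj_inv_cube (G : SL3 F) : (G * (C7 F)⁻¹ * G⁻¹).1 ^ 3 = (G * (C7 F)⁻¹ * G⁻¹).1 ^ 2 + 1 := by
  have h1 := inv_sq (conj_cube (C7_cube (F := F)) G) (D := (G * (C7 F)⁻¹ * G⁻¹).1) (by
    rw [← vmul]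
    have : G * (C7 F)⁻¹ * G⁻¹ * (G * C7 F * G⁻¹) = 1 := by group
    rw [this, vone])
  rw [h1, add_comm, sub_eq_add_neg]
  congr 1
  have h2 := two_mat hF
  rw [neg_eq_iff_add_eq_zero, ← two_mul, h2, zero_mul]

omit [Fintype F] hF in
/-- a lift with square one -/
theorem lift_sq {V : SL3 F} (h : pr F V * pr F V = 1) : ∃ r : F, r ^ 3 = 1 ∧ (r • V.1) * (r • V.1) = 1 := by
  rw [← map_mul] at h
  obtain ⟨r, hr, h1⟩ := pr_eq_one h
  refine ⟨r, hr, ?_⟩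
  rw [vmul] at h1
  rw [smul_mul_smul_comm, h1, smul_smul]
  have : r * r * r = 1 := by rw [← hr]; ring
  rw [this, one_smul]

omit [Fintype F] hF in
theorem eq_one_of_lift {V : SL3 F} {r : F} (hr : r ^ 3 = 1) (h : r • V.1 = 1) : pr F V = 1 := by
  have h1 : V = sc (r ^ 2) (by rw [← pow_mul, mul_comm, pow_mul, hr, one_pow]) := by
    apply sext
    show V.1 = r ^ 2 • (1 : M3 F)
    rw [← h, smul_smul]
    have : r ^ 2 * r = 1 := by rw [← hr]; ring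
    rw [this, one_smul]
  rw [h1, pr_sc]

theorem neg1 : ¬ Inv ((P1 F).map (pr F)) (pr F (C7 F))⁻¹ := by
  rintro ⟨t, v, hv, hv2, h1, h2, h3⟩
  obtain ⟨G, rfl⟩ := pr_surj t
  obtain ⟨V, rfl⟩ := pr_surj v
  have e : pr F G * (pr F (C7 F))⁻¹ * (pr F G)⁻¹ = pr F (G * (C7 F)⁻¹ * G⁻¹) := by
    rw [map_mul, map_mul, map_inv, map_inv]
  rw [e, ← map_inv, ← map_mul, ← map_mul, mem_bar1, conj1] at h2
  rw [e, ← map_pow, ← map_inv, ← map_mul, ← map_mul, mem_bar1, conj1, vpow] at h3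
  rw [mem_bar1, mem_P1_iff] at h1
  obtain ⟨a, h1⟩ := h1
  obtain ⟨b, h2⟩ := h2
  obtain ⟨c, h3⟩ := h3
  obtain ⟨r, hr, hrV⟩ := lift_sq hv2
  apply hv
  refine eq_one_of_lift hr (eq_one_of_fix hF (conj_inv_cube hF G) hrV (e := e0 F) ?_ (a := r * a) (b := r * b)
    (c := r * c) ?_ ?_ ?_)
  · intro h
    simpa using congrFun h 0
  · rw [smul_mulVec, h1, smul_smul]
  · rw [smul_mulVec, h2, smul_smul]
  · rw [smul_mulVec, h3, smul_smul]

theorem neg2 : ¬ Inv ((P2 F).map (pr F)) (pr F (C7 F)) := by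
  rintro ⟨t, v, hv, hv2, h1, h2, h3⟩
  obtain ⟨G, rfl⟩ := pr_surj t
  obtain ⟨V, rfl⟩ := pr_surj v
  have e : pr F G * pr F (C7 F) * (pr F G)⁻¹ = pr F (G * C7 F * G⁻¹) := by
    rw [map_mul, map_mul, map_inv]
  have e' : (G * C7 F * G⁻¹)⁻¹ = G * (C7 F)⁻¹ * G⁻¹ := by group
  rw [e, ← map_inv, ← map_mul, ← map_mul, mem_bar2, conj2, e'] at h2
  rw [e, ← map_pow, ← map_inv, ← map_mul, ← map_mul, mem_bar2, conj2, ← inv_pow, e', vpow, transpose_pow] at h3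
  rw [mem_bar2, mem_P2_iff] at h1
  obtain ⟨a, h1⟩ := h1
  obtain ⟨b, h2⟩ := h2
  obtain ⟨c, h3⟩ := h3
  obtain ⟨r, hr, hrV⟩ := lift_sq hv2
  have hD : ((G * (C7 F)⁻¹ * G⁻¹).1ᵀ) ^ 3 = ((G * (C7 F)⁻¹ * G⁻¹).1ᵀ) ^ 2 + 1 := by
    rw [← transpose_pow, conj_inv_cube hF G, transpose_add, transpose_pow, transpose_one]
  have hV : (r • V.1ᵀ) * (r • V.1ᵀ) = 1 := by
    rw [← transpose_smul, ← transpose_mul, hrV, transpose_one]
  apply hv
  have h4 := eq_one_of_fix hF hD hV (e := e2 F) (by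
    intro h
    simpa using congrFun h 2) (a := r * a) (b := r * b) (c := r * c) (by rw [smul_mulVec, h1, smul_smul])
    (by rw [smul_mulVec, h2, smul_smul]) (by rw [smul_mulVec, h3, smul_smul])
  refine eq_one_of_lift hr ?_
  rw [← transpose_smul] at h4
  rw [← transpose_transpose (r • V.1), h4, transpose_one]

/-- automorphisms leaving the point stabiliser invariant do not fuse `x` and `x⁻¹` -/
theorem no_fuse1 (φ : T3 F ≃* T3 F) (hφ : ((P1 F).map (pr F)).map φ.toMonoidHom = (P1 F).map (pr F)) (g : T3 F) :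
    g * φ (pr F (C7 F)) * g⁻¹ ≠ (pr F (C7 F))⁻¹ := by
  intro h
  apply neg1 hF
  rw [← h]
  exact ((pos1 hF).map φ hφ).conj g

theorem no_fuse2 (φ : T3 F ≃* T3 F) (hφ : ((P2 F).map (pr F)).map φ.toMonoidHom = (P2 F).map (pr F)) (g : T3 F) :
    g * φ (pr F (C7 F)) * g⁻¹ ≠ (pr F (C7 F))⁻¹ := by
  intro h
  apply neg2 hF
  have h1 := ((pos2 hF).map φ hφ).conj g
  rw [map_inv] at h1
  have h2 : g * (φ (pr F (C7 F)))⁻¹ * g⁻¹ = pr F (C7 F) := by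
    rw [← _root_.inv_inj, ← h]; group
  rwa [h2] at h1

end

end Cfsg.Agent.H97.Der
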