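import Mathlib

/-!
# Matrices of degree three over the field with four elements (S3500, row `PSL₃(4)`)
-/

set_option autoImplicit false

namespace Cfsg.Agent.H97.Der

open Matrix Subgroup

variable {F : Type*} [Field F]

abbrev SL3 (F : Type*) [Field F] := Matrix.SpecialLinearGroup (Fin 3) F

abbrev M3 (F : Type*) [Field F] := Matrix (Fin 3) (Fin 3) F

/-- the field with four elements -/
structure F4 (F : Type*) [Field F] [Fintype F] : Prop where
  card : Fintype.card F = 4
  two : (2 : F) = 0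
  cube : ∀ a : F, a ≠ 0 → a ^ 3 = 1

theorem f4_of [Fintype F] (hF : Fintype.card F = 4) : F4 F := by
  refine ⟨hF, ?_, fun a ha => ?_⟩
  · obtain ⟨p, hp⟩ := CharP.exists F
    obtain ⟨n, hpp, hn⟩ := FiniteField.card F p
    have h1 : p ∣ 2 ^ 2 := by
      rw [show 2 ^ 2 = 4 by norm_num, ← hF, hn]
      exact dvd_pow_self p n.ne_zero
    have h2 := (Nat.prime_dvd_prime_iff_eq hpp Nat.prime_two).1 (hpp.dvd_of_dvd_pow h1)
    rw [h2] at hp
    exact_mod_cast hp.cast_eq_zero
  · have h1 := FiniteField.pow_card_sub_one_eq_one a ha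
    rwa [hF] at h1

section

variable [Fintype F] (hF : F4 F)

include hF

namespace F4

theorem no_root_one {a : F} (h : a ^ 3 = a + 1) : False := by
  by_cases ha : a = 0
  · subst ha; simp at h
  · rw [hF.cube a ha] at h
    exact ha (by linear_combination -h)

theorem no_root_two {a : F} (h : a ^ 3 = a ^ 2 + 1) : False := by
  by_cases ha : a = 0
  · subst ha; simp at h
  · rw [hF.cube a ha] at h
    exact ha (pow_eq_zero_iff (two_ne_zero) |>.1 (by linear_combination -h))

theorem exists_w : ∃ w : F, w ^ 2 = w + 1 := by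
  classical
  have h1 : ∃ w : F, w ∉ ({0, 1} : Finset F) := by
    by_contra hcon
    push Not at hcon
    have h2 : (Finset.univ : Finset F) ⊆ {0, 1} := fun x _ => hcon x
    have h3 := Finset.card_le_card h2
    rw [Finset.card_univ, hF.card] at h3
    exact absurd (h3.trans Finset.card_le_two) (by norm_num)
  obtain ⟨w, hw⟩ := h1
  simp only [Finset.mem_insert, Finset.mem_singleton, not_or] at hw
  refine ⟨w, ?_⟩
  have h3 := hF.cube w hw.1
  have h4 : (w - 1) * (w ^ 2 - w - 1 + 2 * (w + 1)) = 0 := by linear_combination h3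
  rcases mul_eq_zero.1 h4 with h5 | h5
  · exact absurd (sub_eq_zero.1 h5) hw.2
  · linear_combination h5 - (w + 1) * hF.two

theorem add_self (a : F) : a + a = 0 := by rw [← two_mul, hF.two, zero_mul]

theorem neg (a : F) : -a = a := neg_eq_of_add_eq_zero_left (hF.add_self a)

theorem sq_one {a : F} (h : a ^ 2 = 1) : a = 1 := by
  have h1 : (a - 1) ^ 2 = 0 := by linear_combination h - (a - 1) * hF.two
  exact sub_eq_zero.1 (pow_eq_zero_iff (two_ne_zero) |>.1 h1)

theorem pow_five {a : F} (h : a ^ 5 = 1) : a = 1 := by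
  have ha : a ≠ 0 := by rintro rfl; simp at h
  exact hF.sq_one (by linear_combination h - a ^ 2 * hF.cube a ha)

end F4

/-- the cyclic vector argument -/
theorem eq_one_of_fix {V D : M3 F} (hD : D ^ 3 = D ^ 2 + 1) (hV : V * V = 1) {e : Fin 3 → F} (he : e ≠ 0)
    {a b c : F} (h1 : V *ᵥ e = a • e) (h2 : V *ᵥ (D *ᵥ e) = b • (D *ᵥ e))
    (h3 : V *ᵥ (D ^ 3 *ᵥ e) = c • (D ^ 3 *ᵥ e)) : V = 1 := by
  have hdet : IsUnit D := by
    refine IsUnit.of_mul_eq_one (D ^ 2 - D) ?_
    have h4 : D * (D ^ 2 - D) = D ^ 3 - D ^ 2 := by noncomm_ring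
    rw [h4, hD]
    noncomm_ring
  have hinj : ∀ v : Fin 3 → F, v ≠ 0 → D *ᵥ v ≠ 0 := by
    intro v hv h4
    apply hv
    obtain ⟨u, rfl⟩ := hdet
    have h5 := congrArg (fun w => (↑u⁻¹ : M3 F) *ᵥ w) h4
    simpa using h5
  -- eigenvalues are one
  have key : ∀ (v : Fin 3 → F) (r : F), v ≠ 0 → V *ᵥ v = r • v → V *ᵥ v = v := by
    intro v r hv h
    have h4 : (r ^ 2) • v = v := by
      calc (r ^ 2) • v = r • (r • v) := by rw [smul_smul, sq]
        _ = V *ᵥ (V *ᵥ v) := by rw [h, mulVec_smul, h]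
        _ = v := by rw [mulVec_mulVec, hV, one_mulVec]
    have h5 : r ^ 2 = 1 := by
      have h6 : (r ^ 2 - 1) • v = 0 := by rw [sub_smul, h4, one_smul, sub_self]
      rcases smul_eq_zero.1 h6 with h7 | h7
      · exact sub_eq_zero.1 h7
      · exact absurd h7 hv
    rw [h, hF.sq_one h5, one_smul]
  have hDe := hinj e he
  have hDDe := hinj _ hDe
  have hD3e : D ^ 3 *ᵥ e ≠ 0 := by
    have h4 : D ^ 3 *ᵥ e = D *ᵥ (D *ᵥ (D *ᵥ e)) := by
      rw [mulVec_mulVec, mulVec_mulVec]
      congr 1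
      noncomm_ring
    rw [h4]
    exact hinj _ hDDe
  have k1 := key e a he h1
  have k2 := key _ b hDe h2
  have k3 := key _ c hD3e h3
  have e3 : D ^ 3 *ᵥ e = D ^ 2 *ᵥ e + e := by rw [hD, add_mulVec, one_mulVec]
  have e2 : D ^ 2 *ᵥ e = D *ᵥ (D *ᵥ e) := by rw [mulVec_mulVec, sq]
  have k4 : V *ᵥ (D *ᵥ (D *ᵥ e)) = D *ᵥ (D *ᵥ e) := by
    rw [e3, mulVec_add, k1, e2] at k3
    exact add_right_cancel k3
  -- the relation
  have rel : ∀ l : F, D *ᵥ e ≠ l • e := by
    intro l hl
    have h5 : D *ᵥ (D *ᵥ e) = l ^ 2 • e := by rw [hl, mulVec_smul, hl, smul_smul, sq]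
    have h6 : D ^ 3 *ᵥ e = l ^ 3 • e := by
      have h7 : D ^ 3 *ᵥ e = D *ᵥ (D *ᵥ (D *ᵥ e)) := by
        rw [mulVec_mulVec, mulVec_mulVec]
        congr 1
        noncomm_ring
      rw [h7, h5, mulVec_smul, hl, smul_smul]
      congr 1
      ring
    rw [e3, e2, h5] at h6
    have h7 : (l ^ 2 + 1 - l ^ 3) • e = 0 := by rw [sub_smul, add_smul, one_smul, h6, sub_self]
    rcases smul_eq_zero.1 h7 with h8 | h8
    · exact hF.no_root_two (a := l) (by linear_combination -h8)
    · exact he h8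
  have hli : LinearIndependent F ![e, D *ᵥ e, D *ᵥ (D *ᵥ e)] := by
    rw [Fintype.linearIndependent_iff]
    intro g hg
    rw [Fin.sum_univ_three] at hg
    simp only [cons_val_zero, cons_val_one, cons_val_two] at hg
    have h20 : g 2 = 0 := by
      by_contra hg2
      obtain ⟨α, hα⟩ : ∃ α, α = -(g 0 / g 2) := ⟨_, rfl⟩
      obtain ⟨β, hβ⟩ : ∃ β, β = -(g 1 / g 2) := ⟨_, rfl⟩
      have h5 : D *ᵥ (D *ᵥ e) = α • e + β • (D *ᵥ e) := by
        have h6 : g 2 • (D *ᵥ (D *ᵥ e)) = g 2 • (α • e + β • (D *ᵥ e)) := by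
          rw [smul_add, smul_smul, smul_smul, hα, hβ, mul_neg, mul_neg, mul_div_cancel₀ _ hg2, mul_div_cancel₀ _ hg2,
            neg_smul, neg_smul, ← neg_add, eq_neg_iff_add_eq_zero, add_comm]
          exact hg
        exact smul_right_injective _ hg2 h6
      have h7 : D ^ 3 *ᵥ e = D *ᵥ (D *ᵥ (D *ᵥ e)) := by
        rw [mulVec_mulVec, mulVec_mulVec]
        congr 1
        noncomm_ring
      have h8 : (α + β ^ 2 - β) • (D *ᵥ e) = (α + 1 - α * β) • e := by
        have h9 := h7
        rw [e3, e2, h5, mulVec_add, mulVec_smul, mulVec_smul, h5] at h9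
        rw [← sub_eq_zero]
        rw [← sub_eq_zero] at h9
        rw [← neg_eq_zero, ← h9]
        module
      by_cases hs : α + β ^ 2 - β = 0
      · rw [hs, zero_smul] at h8
        rcases smul_eq_zero.1 h8.symm with h9 | h9
        · exact hF.no_root_one (a := β) (by linear_combination -h9 + (1 - β) * hs + β ^ 2 * (β - 1) * hF.two)
        · exact he h9
      · apply rel ((α + β ^ 2 - β)⁻¹ * (α + 1 - α * β))
        rw [mul_smul, ← h8, smul_smul, inv_mul_cancel₀ hs, one_smul]
    have h10 : g 1 = 0 := by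
      by_contra hg1
      apply rel (-(g 0 / g 1))
      have h6 : g 1 • (D *ᵥ e) = g 1 • (-(g 0 / g 1) • e) := by
        rw [smul_smul, mul_neg, mul_div_cancel₀ _ hg1, neg_smul, eq_neg_iff_add_eq_zero, add_comm]
        rwa [h20, zero_smul, add_zero] at hg
      exact smul_right_injective _ hg1 h6
    have h00 : g 0 = 0 := by
      rw [h20, h10, zero_smul, zero_smul, add_zero, add_zero] at hg
      rcases smul_eq_zero.1 hg with h | h
      · exact h
      · exact absurd h he
    intro i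
    fin_cases i
    · exact h00
    · exact h10
    · exact h20
  let B := basisOfLinearIndependentOfCardEqFinrank hli (by simp)
  have h9 : Matrix.toLin' V = LinearMap.id := by
    refine B.ext fun i => ?_
    rw [coe_basisOfLinearIndependentOfCardEqFinrank, toLin'_apply, LinearMap.id_apply]
    fin_cases i
    · exact k1
    · exact k2
    · exact k4
  rw [← Matrix.toLin'_one] at h9
  exact Matrix.toLin'.injective h9

end

end Cfsg.Agent.H97.Der
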