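import Cfsg.Agent.H97.Der.L34Elt
import Cfsg.Agent.S2140
import Cfsg.Agent.S0242

/-!
# Overgroups of a Sylow 2-subgroup of `PSL₃(4)` (S3500, row `PSL₃(4)`)
-/

set_option autoImplicit false

namespace Cfsg.Agent.H97.Der

open Matrix Subgroup

variable {F : Type*} [Field F]

/-- the stabiliser of the point `⟨e₀⟩` -/
def P1 (F : Type*) [Field F] : Subgroup (SL3 F) where
  carrier := {M | M.1 1 0 = 0 ∧ M.1 2 0 = 0}
  mul_mem' := by
    rintro A B ⟨h1, h2⟩ ⟨h3, h4⟩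
    constructor
    · rw [vmul, mul_apply, Fin.sum_univ_three, h1, h3, h4]; ring
    · rw [vmul, mul_apply, Fin.sum_univ_three, h2, h3, h4]; ring
  one_mem' := by simp
  inv_mem' := by
    rintro A ⟨h1, h2⟩
    have h3 : (A⁻¹).1 = A.1.adjugate := rfl
    constructor
    · rw [h3, adjugate_fin_three]; simp [h1, h2]
    · rw [h3, adjugate_fin_three]; simp [h1, h2]

/-- the stabiliser of the line `⟨e₀, e₁⟩` -/
def P2 (F : Type*) [Field F] : Subgroup (SL3 F) where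
  carrier := {M | M.1 2 0 = 0 ∧ M.1 2 1 = 0}
  mul_mem' := by
    rintro A B ⟨h1, h2⟩ ⟨h3, h4⟩
    constructor
    · rw [vmul, mul_apply, Fin.sum_univ_three, h1, h2, h3]; ring
    · rw [vmul, mul_apply, Fin.sum_univ_three, h1, h2, h4]; ring
  one_mem' := by simp
  inv_mem' := by
    rintro A ⟨h1, h2⟩
    have h3 : (A⁻¹).1 = A.1.adjugate := rfl
    constructor
    · rw [h3, adjugate_fin_three]; simp [h1, h2]
    · rw [h3, adjugate_fin_three]; simp [h1, h2]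

theorem mem_P1 {M : SL3 F} : M ∈ P1 F ↔ M.1 1 0 = 0 ∧ M.1 2 0 = 0 := Iff.rfl

theorem mem_P2 {M : SL3 F} : M ∈ P2 F ↔ M.1 2 0 = 0 ∧ M.1 2 1 = 0 := Iff.rfl

/-- unitriangular matrices -/
def ut (a b c : F) : SL3 F := ⟨!![1, a, b; 0, 1, c; 0, 0, 1], by simp [det_fin_three]⟩

theorem ut_mul (a b c a' b' c' : F) : ut a b c * ut a' b' c' = ut (a + a') (b' + a * c' + b) (c + c') := by
  apply sext
  rw [vmul]
  ext i j
  fin_cases i <;> fin_cases j <;> simp [ut, mul_apply, Fin.sum_univ_three, add_comm]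

theorem ut_zero : ut (0 : F) 0 0 = 1 := by
  apply sext
  rw [vone]
  ext i j
  fin_cases i <;> fin_cases j <;> simp [ut]

/-- the unitriangular group -/
def U (F : Type*) [Field F] : Subgroup (SL3 F) where
  carrier := {M | ∃ a b c, M = ut a b c}
  mul_mem' := by
    rintro A B ⟨a, b, c, rfl⟩ ⟨a', b', c', rfl⟩
    exact ⟨_, _, _, ut_mul _ _ _ _ _ _⟩
  one_mem' := ⟨0, 0, 0, ut_zero.symm⟩
  inv_mem' := by
    rintro A ⟨a, b, c, rfl⟩
    refine ⟨-a, a * c - b, -c, ?_⟩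
    rw [inv_eq_iff_mul_eq_one, ut_mul, ← ut_zero]
    congr 1 <;> ring

/-- scalar matrices -/
def sc (c : F) (hc : c ^ 3 = 1) : SL3 F := ⟨c • (1 : M3 F), by simp [hc]⟩

theorem pr_sc (c : F) (hc : c ^ 3 = 1) : pr F (sc c hc) = 1 := by
  refine (QuotientGroup.eq_one_iff _).2 (Matrix.SpecialLinearGroup.mem_center_iff.2 ⟨c, by simpa using hc, ?_⟩)
  show _ = c • (1 : M3 F)
  rw [smul_one_eq_diagonal]
  rfl

/-- the two columns -/
def lift1 (s : SL3 F) (w0 w1 c : F) (hc : c ^ 3 = 1) : SL3 F :=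
  sc c hc * ut 0 ((w0 / c - s.1 0 0) / s.1 2 0) ((w1 / c - s.1 1 0) / s.1 2 0) * s

theorem lift1_col (s : SL3 F) (w0 w1 c : F) (hc : c ^ 3 = 1) (hs : s.1 2 0 ≠ 0) :
    (lift1 s w0 w1 c hc).1 0 0 = w0 ∧ (lift1 s w0 w1 c hc).1 1 0 = w1 ∧ (lift1 s w0 w1 c hc).1 2 0 = c * s.1 2 0 := by
  have hc0 : c ≠ 0 := by rintro rfl; simp at hc
  have h1 : (lift1 s w0 w1 c hc).1 = (c • (1 : M3 F)) *
      (!![1, 0, (w0 / c - s.1 0 0) / s.1 2 0; 0, 1, (w1 / c - s.1 1 0) / s.1 2 0; 0, 0, 1] : M3 F) * s.1 := rfl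
  rw [h1, smul_mul_assoc, one_mul]
  refine ⟨?_, ?_, ?_⟩
  · simp [mul_apply, Fin.sum_univ_three]
    field_simp
    ring
  · simp [mul_apply, Fin.sum_univ_three]
    field_simp
    ring
  · simp [mul_apply, Fin.sum_univ_three]

theorem mul_ut_col (A : SL3 F) (a b c : F) (i : Fin 3) : (A * ut a b c).1 i 0 = A.1 i 0 := by
  rw [vmul, mul_apply, Fin.sum_univ_three]
  simp [ut]

theorem ut_inj {a b c a' b' c' : F} (h : ut a b c = ut a' b' c') : a = a' ∧ b = b' ∧ c = c' := by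
  have h1 : (ut a b c).1 = (ut a' b' c').1 := by rw [h]
  refine ⟨?_, ?_, ?_⟩
  · simpa [ut] using congrFun (congrFun h1 0) 1
  · simpa [ut] using congrFun (congrFun h1 0) 2
  · simpa [ut] using congrFun (congrFun h1 1) 2

section

variable [Fintype F] (hF : F4 F)

include hF

theorem card_SL3 : Nat.card (SL3 F) = 60480 := by
  have h := S0242.result (F := F) hF.card 3 (by norm_num)
  have h2 : ∏ i : Fin 3, (4 ^ 3 - 4 ^ (i : ℕ)) = 181440 := by decide
  rw [h2] at h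
  have h3 : 3 * Nat.card (SL3 F) = 181440 := h
  omega

theorem card_bound (R : Subgroup (SL3 F)) (hU : U F ≤ R) (hz : ∀ (c : F) (hc : c ^ 3 = 1), sc c hc ∈ R) {s : SL3 F}
    (hs : s ∈ R) (hs0 : s.1 2 0 ≠ 0) : 3072 ≤ Nat.card R := by
  classical
  let Ψ : (F × F × Fˣ) × (F × F × F) → R := fun x =>
    ⟨lift1 s x.1.1 x.1.2.1 (x.1.2.2 : F) (hF.cube _ x.1.2.2.ne_zero) * ut x.2.1 x.2.2.1 x.2.2.2,
      R.mul_mem (R.mul_mem (R.mul_mem (hz _ _) (hU ⟨_, _, _, rfl⟩)) hs) (hU ⟨_, _, _, rfl⟩)⟩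
  have hinj : Function.Injective Ψ := by
    rintro ⟨⟨w0, w1, c⟩, a, b, d⟩ ⟨⟨w0', w1', c'⟩, a', b', d'⟩ h
    have h1 : lift1 s w0 w1 c (hF.cube _ c.ne_zero) * ut a b d =
        lift1 s w0' w1' c' (hF.cube _ c'.ne_zero) * ut a' b' d' := congrArg Subtype.val h
    have h2 : ∀ i, (lift1 s w0 w1 c (hF.cube _ c.ne_zero)).1 i 0 = (lift1 s w0' w1' c' (hF.cube _ c'.ne_zero)).1 i 0 := by
      intro i
      rw [← mul_ut_col _ a b d, h1, mul_ut_col]
    obtain ⟨e0, e1, e2⟩ := lift1_col s w0 w1 c (hF.cube _ c.ne_zero) hs0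
    obtain ⟨e0', e1', e2'⟩ := lift1_col s w0' w1' c' (hF.cube _ c'.ne_zero) hs0
    have k0 : w0 = w0' := by rw [← e0, h2, e0']
    have k1 : w1 = w1' := by rw [← e1, h2, e1']
    have k2 : c = c' := by
      have h3 : (c : F) * s.1 2 0 = c' * s.1 2 0 := by rw [← e2, h2, e2']
      exact Units.ext (mul_right_cancel₀ hs0 h3)
    subst k0 k1 k2
    obtain ⟨k3, k4, k5⟩ := ut_inj (mul_left_cancel h1)
    subst k3 k4 k5
    rfl
  have h1 := Nat.card_le_card_of_injective Ψ hinj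
  rw [Nat.card_prod, Nat.card_prod, Nat.card_prod, Nat.card_prod, Nat.card_prod, Nat.card_eq_fintype_card (α := F),
    Nat.card_eq_fintype_card (α := Fˣ), Fintype.card_units, hF.card] at h1
  omega

/-- **Overgroups of the unitriangular group.** -/
theorem or_of_le (R : Subgroup (T3 F)) (hR : R ≠ ⊤) (hU : (U F).map (pr F) ≤ R) :
    R.comap (pr F) ≤ P1 F ∨ R.comap (pr F) ≤ P2 F := by
  have hU' : U F ≤ R.comap (pr F) := Subgroup.map_le_iff_le_comap.1 hU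
  have hz : ∀ (c : F) (hc : c ^ 3 = 1), sc c hc ∈ R.comap (pr F) := fun c hc => by
    rw [mem_comap, pr_sc]; exact R.one_mem
  have hidx : 21 ≤ (R.comap (pr F)).index := by
    rw [Subgroup.index_comap_of_surjective _ (QuotientGroup.mk'_surjective _)]
    have h1 := (S2140.result (F := F) hF.card 3 le_rfl (by norm_num)).1 R hR
    norm_num at h1
    exact h1
  have h20 : ∀ s ∈ R.comap (pr F), s.1 2 0 = 0 := by
    intro s hs
    by_contra hs0
    have h1 := card_bound hF _ hU' hz hs hs0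
    have h2 := Subgroup.card_mul_index (R.comap (pr F))
    rw [card_SL3 hF] at h2
    nlinarith
  by_cases h10 : ∀ s ∈ R.comap (pr F), s.1 1 0 = 0
  · exact Or.inl fun s hs => ⟨h10 s hs, h20 s hs⟩
  · push Not at h10
    obtain ⟨r, hr, hr0⟩ := h10
    refine Or.inr fun s hs => ⟨h20 s hs, ?_⟩
    -- `s e₁` from `s * r` and `s`
    have h1 := h20 (s * r) (mul_mem hs hr)
    rw [vmul, mul_apply, Fin.sum_univ_three, h20 s hs, h20 r hr, zero_mul, zero_add, mul_zero, add_zero] at h1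
    exact (mul_eq_zero.1 h1).resolve_right hr0

end

end Cfsg.Agent.H97.Der
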